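import Mathlib

/-!
# Diagonalization of f.g. submodules of finite free modules over rings with total divisibility
-/

namespace Groth.Agent.Helper9.Warfield

variable {R : Type*} [CommRing R]

lemma exists_min_dvd (hR : ∀ a b : R, a ∣ b ∨ b ∣ a) (S : Finset R) (hS : S.Nonempty) :
    ∃ d ∈ S, ∀ s ∈ S, d ∣ s := by
  induction hS using Finset.Nonempty.cons_induction with
  | singleton a => exact ⟨a, by simp, by simp⟩
  | cons a s ha hs ih =>
    obtain ⟨d, hd, hds⟩ := ih
    rcases hR a d with h | h
    · refine ⟨a, by simp, ?_⟩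
      intro x hx
      rw [Finset.mem_cons] at hx
      rcases hx with rfl | hx
      · exact dvd_rfl
      · exact h.trans (hds x hx)
    · refine ⟨d, by simp [hd], ?_⟩
      intro x hx
      rw [Finset.mem_cons] at hx
      rcases hx with rfl | hx
      · exact h
      · exact hds x hx

variable {ι : Type*} [Fintype ι] [DecidableEq ι]

/-- shear automorphism `x ↦ x - x i₀ • w` -/
noncomputable def shear (i₀ : ι) (w : ι → R) (hw : w i₀ = 0) : (ι → R) ≃ₗ[R] (ι → R) :=
  LinearEquiv.ofLinearMap
    (LinearMap.id - (LinearMap.proj i₀ : (ι → R) →ₗ[R] R).smulRight w)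
    (LinearMap.id + (LinearMap.proj i₀ : (ι → R) →ₗ[R] R).smulRight w)
    (by
      ext x i
      simp [hw])
    (by
      ext x i
      simp [hw])

lemma shear_apply (i₀ : ι) (w : ι → R) (hw : w i₀ = 0) (x : ι → R) :
    shear i₀ w hw x = x - x i₀ • w := by
  simp [shear]

lemma shear_apply_of_eq_zero (i₀ : ι) (w : ι → R) (hw : w i₀ = 0) (x : ι → R) (hx : x i₀ = 0) :
    shear i₀ w hw x = x := by
  simp [shear_apply, hx]

omit [Fintype ι] in
lemma pi_update (f' : ι → R) (i₀ : ι) (d : R) (hf : f' i₀ = 0) :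
    Submodule.pi Set.univ (fun i => Ideal.span {Function.update f' i₀ d i}) =
      Submodule.span R {Pi.single i₀ d} ⊔ Submodule.pi Set.univ (fun i => Ideal.span {f' i}) := by
  ext x
  simp only [Submodule.mem_pi, Set.mem_univ, forall_true_left, Ideal.mem_span_singleton,
    Submodule.mem_sup, Submodule.mem_span_singleton]
  constructor
  · intro h
    obtain ⟨c, hc⟩ : d ∣ x i₀ := by simpa using h i₀
    refine ⟨c • Pi.single i₀ d, ⟨c, rfl⟩, Function.update x i₀ 0, ?_, ?_⟩
    · intro i
      by_cases hi : i = i₀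
      · subst hi; simp
      · have := h i
        simpa [Function.update_of_ne hi] using this
    · funext i
      by_cases hi : i = i₀
      · subst hi; simp [hc, mul_comm]
      · simp [Function.update_of_ne hi, Pi.single_eq_of_ne hi]
  · rintro ⟨y, ⟨c, rfl⟩, z, hz, rfl⟩ i
    by_cases hi : i = i₀
    · subst hi
      have : z i = 0 := by simpa [hf] using hz i
      simp [this]
    · simpa [Function.update_of_ne hi, Pi.single_eq_of_ne hi] using hz i

omit [Fintype ι] [DecidableEq ι] in
lemma bot_case (s : Finset ι) :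
    ∃ (T : (ι → R) ≃ₗ[R] (ι → R)) (f : ι → R),
      (∀ x, (∀ i ∈ s, x i = 0) → T x = x) ∧ (∀ x i, i ∉ s → T x i = x i) ∧
      (∀ i ∉ s, f i = 0) ∧
      (⊥ : Submodule R (ι → R)).map (T : (ι → R) →ₗ[R] (ι → R)) =
        Submodule.pi Set.univ (fun i => Ideal.span {f i}) := by
  refine ⟨LinearEquiv.refl _ _, 0, fun _ _ => rfl, fun _ _ _ => rfl, fun _ _ => rfl, ?_⟩
  rw [Submodule.map_bot]
  ext x
  simp [funext_iff]

theorem diag_aux (hR : ∀ a b : R, a ∣ b ∨ b ∣ a) :
    ∀ (k : ℕ) (s : Finset ι), s.card = k → ∀ K : Submodule R (ι → R), K.FG →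
      (∀ x ∈ K, ∀ i ∉ s, x i = 0) →
      ∃ (T : (ι → R) ≃ₗ[R] (ι → R)) (f : ι → R),
        (∀ x, (∀ i ∈ s, x i = 0) → T x = x) ∧ (∀ x i, i ∉ s → T x i = x i) ∧
        (∀ i ∉ s, f i = 0) ∧
        K.map (T : (ι → R) →ₗ[R] (ι → R)) =
          Submodule.pi Set.univ (fun i => Ideal.span {f i}) := by
  intro k
  induction k with
  | zero =>
    intro s hs K hK hsupp
    have : K = ⊥ := by
      rw [eq_bot_iff]
      intro x hx
      rw [Submodule.mem_bot]
      funext i
      exact hsupp x hx i (by rw [Finset.card_eq_zero.mp hs]; simp)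
    subst this
    exact bot_case s
  | succ k ih =>
    intro s hs K hK hsupp
    classical
    by_cases hbot : K = ⊥
    · subst hbot; exact bot_case s
    obtain ⟨m, g, hg⟩ := Submodule.fg_iff_exists_fin_generating_family.mp hK
    have hgK : ∀ j, g j ∈ K := fun j => hg ▸ Submodule.subset_span ⟨j, rfl⟩
    have hne : ∃ j i, g j i ≠ 0 := by
      by_contra hcon
      push Not at hcon
      apply hbot
      rw [← hg, Submodule.span_eq_bot]
      rintro _ ⟨j, rfl⟩
      funext i; exact hcon j i
    obtain ⟨j₁, i₁, hji⟩ := hne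
    let S : Finset R := Finset.univ.image (fun p : Fin m × ι => g p.1 p.2)
    have hS : S.Nonempty :=
      ⟨g j₁ i₁, Finset.mem_image.mpr ⟨(j₁, i₁), Finset.mem_univ _, rfl⟩⟩
    obtain ⟨d, hdS, hd⟩ := exists_min_dvd hR S hS
    obtain ⟨⟨j₀, i₀⟩, -, hd0⟩ := Finset.mem_image.mp hdS
    have hdvd : ∀ j i, d ∣ g j i := fun j i =>
      hd _ (Finset.mem_image.mpr ⟨(j, i), Finset.mem_univ _, rfl⟩)
    have hdne : d ≠ 0 := by
      rintro rfl
      exact hji (zero_dvd_iff.mp (hdvd j₁ i₁))
    have hi₀ : i₀ ∈ s := by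
      by_contra hcon
      exact hdne (hd0 ▸ hsupp _ (hgK j₀) i₀ hcon)
    choose c hc using hdvd
    let w : ι → R := fun i => if i ∈ s ∧ i ≠ i₀ then c j₀ i else 0
    have hw : w i₀ = 0 := by simp [w]
    have hws : ∀ i ∉ s, w i = 0 := by
      intro i hi; simp [w, hi]
    have hx₀ : g j₀ = d • (Pi.single i₀ 1 + w) := by
      funext i
      by_cases hi : i = i₀
      · subst hi; simp [hw, hd0]
      · by_cases his : i ∈ s
        · simp [w, his, hi, hc j₀ i]
        · simp [hws i his, Pi.single_eq_of_ne hi, hsupp _ (hgK j₀) i his]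
    let K' : Submodule R (ι → R) := Submodule.span R (Set.range fun j => g j - c j i₀ • g j₀)
    have hK'K : K' ≤ K := by
      rw [Submodule.span_le]
      rintro _ ⟨j, rfl⟩
      exact K.sub_mem (hgK j) (K.smul_mem _ (hgK j₀))
    have hK'0 : ∀ x ∈ K', x i₀ = 0 := by
      intro x hx
      induction hx using Submodule.span_induction with
      | mem x hx =>
        obtain ⟨j, rfl⟩ := hx
        simp only [Pi.sub_apply, Pi.smul_apply, smul_eq_mul]
        dsimp only at hd0
        rw [hd0, hc j i₀]; ring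
      | zero => rfl
      | add x y _ _ hx hy => simp [hx, hy]
      | smul a x _ hx => simp [hx]
    have hKsup : K = Submodule.span R {g j₀} ⊔ K' := by
      apply le_antisymm
      · rw [← hg, Submodule.span_le]
        rintro _ ⟨j, rfl⟩
        have : g j = c j i₀ • g j₀ + (g j - c j i₀ • g j₀) := by abel
        rw [this]
        exact Submodule.add_mem_sup (Submodule.smul_mem _ _ (Submodule.mem_span_singleton_self _))
          (Submodule.subset_span ⟨j, rfl⟩)
      · exact sup_le (by rw [Submodule.span_singleton_le_iff_mem]; exact hgK j₀) hK'K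
    have hK'fg : K'.FG := Submodule.fg_span (Set.finite_range _)
    have hs' : (s.erase i₀).card = k := by
      rw [Finset.card_erase_of_mem hi₀, hs]; rfl
    have hK'supp : ∀ x ∈ K', ∀ i ∉ s.erase i₀, x i = 0 := by
      intro x hx i hi
      by_cases hi' : i = i₀
      · subst hi'; exact hK'0 x hx
      · apply hsupp x (hK'K hx) i
        intro his
        exact hi (Finset.mem_erase.mpr ⟨hi', his⟩)
    obtain ⟨T', f', hT'1, hT'2, hf', hT'K⟩ := ih (s.erase i₀) hs' K' hK'fg hK'supp
    refine ⟨(shear i₀ w hw).trans T', Function.update f' i₀ d, ?_, ?_, ?_, ?_⟩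
    · intro x hx
      rw [LinearEquiv.trans_apply, shear_apply_of_eq_zero _ _ _ _ (hx i₀ hi₀)]
      exact hT'1 x (fun i hi => hx i (Finset.mem_of_mem_erase hi))
    · intro x i hi
      rw [LinearEquiv.trans_apply, hT'2 _ _ (fun h => hi (Finset.mem_of_mem_erase h)),
        shear_apply]
      simp [hws i hi]
    · intro i hi
      have : i ≠ i₀ := fun h => hi (h ▸ hi₀)
      rw [Function.update_of_ne this]
      exact hf' i (fun h => hi (Finset.mem_of_mem_erase h))
    · rw [pi_update f' i₀ d (hf' i₀ (by simp)), ← hT'K, hKsup, Submodule.map_sup,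
        Submodule.map_span, Set.image_singleton]
      have h1 : ((shear i₀ w hw).trans T' : (ι → R) →ₗ[R] (ι → R)) (g j₀) = Pi.single i₀ d := by
        rw [LinearEquiv.coe_coe, LinearEquiv.trans_apply, shear_apply, hx₀]
        have : d • (Pi.single i₀ 1 + w) - (d • (Pi.single i₀ (1 : R) + w) : ι → R) i₀ • w =
            Pi.single i₀ d := by
          funext i
          by_cases hi : i = i₀
          · subst hi; simp [hw]
          · simp [Pi.single_eq_of_ne hi, hw]
        rw [this]
        apply hT'1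
        intro i hi
        exact Pi.single_eq_of_ne (Finset.ne_of_mem_erase hi) _
      rw [h1]
      congr 1
      ext x
      simp only [Submodule.mem_map, LinearEquiv.coe_coe, LinearEquiv.trans_apply]
      constructor
      · rintro ⟨y, hy, rfl⟩
        exact ⟨y, hy, by rw [shear_apply_of_eq_zero _ _ _ _ (hK'0 y hy)]⟩
      · rintro ⟨y, hy, rfl⟩
        exact ⟨y, hy, by rw [shear_apply_of_eq_zero _ _ _ _ (hK'0 y hy)]⟩

/-- **Diagonalization**: over a ring with total divisibility, every finitely generated submodule of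
`ι → R` is, after an automorphism, a product of principal ideals. -/
theorem exists_diag (hR : ∀ a b : R, a ∣ b ∨ b ∣ a) (K : Submodule R (ι → R)) (hK : K.FG) :
    ∃ (T : (ι → R) ≃ₗ[R] (ι → R)) (f : ι → R),
      K.map (T : (ι → R) →ₗ[R] (ι → R)) =
        Submodule.pi Set.univ (fun i => Ideal.span {f i}) := by
  obtain ⟨T, f, -, -, -, h⟩ := diag_aux hR _ Finset.univ rfl K hK (fun x _ i hi => by simp at hi)
  exact ⟨T, f, h⟩

/-- Structure of finitely presented modules over a ring with total divisibility. -/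
theorem exists_equiv_pi_quot (hR : ∀ a b : R, a ∣ b ∨ b ∣ a)
    (M : Type*) [AddCommGroup M] [Module R M] [Module.FinitePresentation R M] :
    ∃ (n : ℕ) (f : Fin n → R), Nonempty (M ≃ₗ[R] ((i : Fin n) → R ⧸ Ideal.span {f i})) := by
  obtain ⟨n, K, e, hK⟩ := Module.FinitePresentation.exists_fin R M
  obtain ⟨T, f, hT⟩ := exists_diag hR K hK
  exact ⟨n, f, ⟨e ≪≫ₗ (Submodule.Quotient.equiv K _ T hT ≪≫ₗ Submodule.quotientPi _)⟩⟩

end Groth.Agent.Helper9.Warfield
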