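import Mathlib
import Groth.Agent.Lib.Helper9.Warfield.Diag

/-!
# Warfield: f.p. modules over rings locally with total divisibility are summands of sums of cyclics
-/

namespace Groth.Agent.Helper9.Warfield

universe u

section L1

variable {R : Type*} [CommRing R] {M P M' P' : Type*}
  [AddCommGroup M] [Module R M] [AddCommGroup P] [Module R P]
  [AddCommGroup M'] [Module R M'] [AddCommGroup P'] [Module R P']

/-- If the localizations of f.p. modules `M`, `P` are isomorphic, then `M` is a "retract of `P` up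
to an element of `S`". -/
theorem exists_retract_of_localized_equiv (S : Submonoid R)
    [Module.FinitePresentation R M] [Module.FinitePresentation R P]
    (fM : M →ₗ[R] M') [IsLocalizedModule S fM] (fP : P →ₗ[R] P') [IsLocalizedModule S fP]
    (e : M' ≃ₗ[R] P') :
    ∃ (u : P →ₗ[R] M) (v : M →ₗ[R] P) (s : R), s ∈ S ∧ u ∘ₗ v = s • LinearMap.id := by
  obtain ⟨v, s₁, hv⟩ := Module.FinitePresentation.exists_lift_of_isLocalizedModule S fP
    (e.toLinearMap ∘ₗ fM)
  obtain ⟨u, s₂, hu⟩ := Module.FinitePresentation.exists_lift_of_isLocalizedModule S fM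
    (e.symm.toLinearMap ∘ₗ fP)
  have H : fM ∘ₗ (u ∘ₗ v) = fM ∘ₗ ((s₂ * s₁ : S) • LinearMap.id) := by
    ext x
    have h1 : fM (u (v x)) = (s₂ : R) • e.symm (fP (v x)) := LinearMap.congr_fun hu (v x)
    have h2 : fP (v x) = (s₁ : R) • e (fM x) := LinearMap.congr_fun hv x
    simp only [LinearMap.coe_comp, Function.comp_apply, LinearMap.smul_apply, LinearMap.id_coe,
      id_eq, Submonoid.smul_def, Submonoid.coe_mul]
    rw [h1, h2, map_smul, LinearEquiv.symm_apply_apply, map_smul, mul_smul]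
  obtain ⟨s₃, hs₃⟩ := Module.Finite.exists_smul_of_comp_eq_of_isLocalizedModule S fM _ _ H
  refine ⟨(s₃ : R) • u, v, (s₃ * (s₂ * s₁) : S), (s₃ * (s₂ * s₁)).2, ?_⟩
  rw [LinearMap.smul_comp]
  ext x
  have := LinearMap.congr_fun hs₃ x
  simp only [LinearMap.smul_apply, LinearMap.coe_comp, Function.comp_apply, LinearMap.id_coe,
    id_eq, Submonoid.smul_def] at this ⊢
  rw [this]
  simp only [Submonoid.coe_mul, mul_smul]

end L1

section L2

variable {R : Type u} [CommRing R]

instance finitePresentation_quot_span_singleton (a : R) :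
    Module.FinitePresentation R (R ⧸ Ideal.span {a}) := by
  refine Module.finitePresentation_of_surjective (Submodule.mkQ (Ideal.span {a}))
    (Submodule.mkQ_surjective (Ideal.span {a})) ?_
  rw [Submodule.ker_mkQ]
  exact ⟨{a}, by simp [Ideal.span]⟩

/-- Local model. -/
theorem exists_local_retract (p : Ideal R) [p.IsPrime]
    (hp : ∀ a b : Localization.AtPrime p, a ∣ b ∨ b ∣ a)
    (M : Type u) [AddCommGroup M] [Module R M] [Module.FinitePresentation R M] :
    ∃ (n : ℕ) (f : Fin n → R) (u : ((i : Fin n) → R ⧸ Ideal.span {f i}) →ₗ[R] M)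
      (v : M →ₗ[R] ((i : Fin n) → R ⧸ Ideal.span {f i})) (s : R),
      s ∉ p ∧ u ∘ₗ v = s • LinearMap.id := by
  let Rp := Localization.AtPrime p
  let Mp := LocalizedModule p.primeCompl M
  obtain ⟨n, φ, ⟨e⟩⟩ := exists_equiv_pi_quot hp Mp
  have hsurj : ∀ i, ∃ x : R × p.primeCompl, φ i * algebraMap R Rp x.2 = algebraMap R Rp x.1 :=
    fun i => IsLocalization.surj p.primeCompl (φ i)
  choose x hx using hsurj
  let f : Fin n → R := fun i => (x i).1
  let Q : Fin n → Submodule Rp Rp := fun i =>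
    (Submodule.span R {f i}).localized' Rp p.primeCompl (Algebra.linearMap R Rp)
  have hQ : ∀ i, Ideal.span {φ i} = Q i := by
    intro i
    simp only [Q, Submodule.localized'_span, Set.image_singleton, Algebra.linearMap_apply, f]
    rw [← hx i]
    have hu : IsUnit (algebraMap R Rp (x i).2) := IsLocalization.map_units Rp (x i).2
    exact (Ideal.span_singleton_mul_right_unit hu (φ i)).symm
  let fP : ((i : Fin n) → R ⧸ Ideal.span {f i}) →ₗ[R] ((i : Fin n) → Rp ⧸ Q i) :=
    LinearMap.pi fun i =>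
      (Submodule.span R {f i}).toLocalizedQuotient' Rp p.primeCompl (Algebra.linearMap R Rp) ∘ₗ
        LinearMap.proj i
  have hfP : IsLocalizedModule p.primeCompl fP :=
    IsLocalizedModule.pi p.primeCompl (fun i =>
      (Submodule.span R {f i}).toLocalizedQuotient' Rp p.primeCompl (Algebra.linearMap R Rp))
  let E : Mp ≃ₗ[R] ((i : Fin n) → Rp ⧸ Q i) :=
    (e ≪≫ₗ LinearEquiv.piCongrRight (fun i => Submodule.quotEquivOfEq _ _ (hQ i))).restrictScalars R
  obtain ⟨u, v, s, hs, huv⟩ := exists_retract_of_localized_equiv p.primeCompl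
    (LocalizedModule.mkLinearMap p.primeCompl M) fP E
  exact ⟨n, f, u, v, s, hs, huv⟩

end L2

section L3

variable {R : Type u} [CommRing R]

/-- A retract of `P` is a direct factor. -/
noncomputable def prodKerEquivOfRetract {M P : Type*} [AddCommGroup M] [Module R M]
    [AddCommGroup P] [Module R P] (i : M →ₗ[R] P) (p : P →ₗ[R] M) (h : p ∘ₗ i = LinearMap.id) :
    (M × LinearMap.ker p) ≃ₗ[R] P where
  toFun x := i x.1 + x.2.1
  map_add' x y := by simp only [Prod.fst_add, map_add, Prod.snd_add, Submodule.coe_add]; abel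
  map_smul' a x := by simp
  invFun y := (p y, ⟨y - i (p y), by
    have : p (i (p y)) = p y := LinearMap.congr_fun h (p y)
    simp [this]⟩)
  left_inv x := by
    have h1 : p (i x.1) = x.1 := LinearMap.congr_fun h x.1
    have h2 : p x.2.1 = 0 := x.2.2
    ext
    · simp [h1, h2]
    · simp [h1, h2]
  right_inv y := by simp

theorem exists_summand_of_locally_dvd_total
    (h : ∀ (m : Ideal R) [m.IsMaximal], ∀ a b : Localization.AtPrime m, a ∣ b ∨ b ∣ a)
    (M : Type u) [AddCommGroup M] [Module R M] [Module.FinitePresentation R M] :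
    ∃ (n : ℕ) (f : Fin n → R) (i : M →ₗ[R] ((j : Fin n) → R ⧸ Ideal.span {f j}))
      (p : ((j : Fin n) → R ⧸ Ideal.span {f j}) →ₗ[R] M), p ∘ₗ i = LinearMap.id := by
  classical
  have key : ∀ m : MaximalSpectrum R, ∃ (n : ℕ) (f : Fin n → R)
      (u : ((i : Fin n) → R ⧸ Ideal.span {f i}) →ₗ[R] M)
      (v : M →ₗ[R] ((i : Fin n) → R ⧸ Ideal.span {f i})) (s : R),
      s ∉ m.asIdeal ∧ u ∘ₗ v = s • LinearMap.id := fun m =>
    haveI := m.isMaximal
    exists_local_retract m.asIdeal (h m.asIdeal) M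
  choose n f u v s hs huv using key
  have htop : Ideal.span (Set.range s) = ⊤ := by
    by_contra hne
    obtain ⟨m, hm, hle⟩ := Ideal.exists_le_maximal _ hne
    exact hs ⟨m, hm⟩ (hle (Ideal.subset_span ⟨⟨m, hm⟩, rfl⟩))
  have h1 : (1 : R) ∈ Ideal.span (Set.range s) := htop ▸ Submodule.mem_top
  obtain ⟨c, hc⟩ := (Finsupp.mem_span_range_iff_exists_finsupp).mp h1
  let J := {m // m ∈ c.support}
  let ι := Σ m : J, Fin (n m.1)
  let g : ι → R := fun x => f x.1.1 x.2
  -- the retraction data on the curried product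
  let U : ((m : J) → (i : Fin (n m.1)) → R ⧸ Ideal.span {f m.1 i}) →ₗ[R] M :=
    ∑ m : J, u m.1 ∘ₗ LinearMap.proj m
  let V : M →ₗ[R] ((m : J) → (i : Fin (n m.1)) → R ⧸ Ideal.span {f m.1 i}) :=
    LinearMap.pi fun m => c m.1 • v m.1
  have hUV : U ∘ₗ V = LinearMap.id := by
    ext y
    simp only [U, V, LinearMap.coe_comp, Function.comp_apply, LinearMap.sum_apply,
      LinearMap.proj_apply, LinearMap.pi_apply, LinearMap.smul_apply,
      LinearMap.id_coe, id_eq, map_smul]
    have : ∀ m : J, c m.1 • u m.1 (v m.1 y) = (c m.1 * s m.1) • y := by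
      intro m
      have := LinearMap.congr_fun (huv m.1) y
      simp only [LinearMap.coe_comp, Function.comp_apply, LinearMap.smul_apply, LinearMap.id_coe,
        id_eq] at this
      rw [this, mul_smul]
    simp_rw [this]
    rw [← Finset.sum_smul, Finset.sum_coe_sort c.support (fun m => c m * s m)]
    have : ∑ m ∈ c.support, c m * s m = 1 := by
      simpa [Finsupp.sum, smul_eq_mul] using hc
    rw [this, one_smul]
  -- reindex
  let e1 : ((x : ι) → R ⧸ Ideal.span {g x}) ≃ₗ[R]
      ((m : J) → (i : Fin (n m.1)) → R ⧸ Ideal.span {f m.1 i}) :=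
    LinearEquiv.piCurry R (fun (m : J) (i : Fin (n m.1)) => R ⧸ Ideal.span {f m.1 i})
  let eι : ι ≃ Fin (Fintype.card ι) := Fintype.equivFin ι
  let e2 : ((x : ι) → R ⧸ Ideal.span {g x}) ≃ₗ[R]
      ((l : Fin (Fintype.card ι)) → R ⧸ Ideal.span {g (eι.symm l)}) :=
    LinearEquiv.piCongrLeft' R (fun x : ι => R ⧸ Ideal.span {g x}) eι
  refine ⟨Fintype.card ι, fun l => g (eι.symm l),
    e2.toLinearMap ∘ₗ e1.symm.toLinearMap ∘ₗ V, U ∘ₗ e1.toLinearMap ∘ₗ e2.symm.toLinearMap, ?_⟩
  ext y
  have := LinearMap.congr_fun hUV y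
  simpa using this

end L3

end Groth.Agent.Helper9.Warfield
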