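import Mathlib
import Groth.Agent.Lib.Helper9.Warfield.Global

/-!
# Bézout domains: local total divisibility, f.g. submodules of free modules are free
-/

namespace Groth.Agent.Helper9.Warfield

section Bezout

variable {R : Type*} [CommRing R] [IsDomain R] [IsBezout R]

theorem dvd_total_localization_atPrime (p : Ideal R) [p.IsPrime]
    (a b : Localization.AtPrime p) : a ∣ b ∨ b ∣ a := by
  obtain ⟨⟨x, s⟩, hx⟩ := IsLocalization.surj p.primeCompl a
  obtain ⟨⟨y, t⟩, hy⟩ := IsLocalization.surj p.primeCompl b
  have hax : Associated a (algebraMap R _ x) :=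
    ⟨(IsLocalization.map_units (Localization.AtPrime p) s).unit, hx⟩
  have hby : Associated b (algebraMap R _ y) :=
    ⟨(IsLocalization.map_units (Localization.AtPrime p) t).unit, hy⟩
  rw [hax.dvd_iff_dvd_left, hby.dvd_iff_dvd_right, hax.dvd_iff_dvd_right, hby.dvd_iff_dvd_left]
  obtain ⟨x', hx'⟩ := IsBezout.gcd_dvd_left x y
  obtain ⟨y', hy'⟩ := IsBezout.gcd_dvd_right x y
  obtain ⟨α, β, hαβ⟩ := IsBezout.gcd_eq_sum x y
  set d := IsBezout.gcd x y with hd
  by_cases hd0 : d = 0
  · left
    rw [hy', hd0, zero_mul, map_zero]
    exact dvd_zero _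
  · have h1 : α * x' + β * y' = 1 := by
      apply mul_left_cancel₀ hd0
      rw [mul_one]
      calc d * (α * x' + β * y') = α * (d * x') + β * (d * y') := by ring
        _ = d := by rw [← hx', ← hy', hαβ]
    have : x' ∉ p ∨ y' ∉ p := by
      by_contra hcon
      push Not at hcon
      have : (1 : R) ∈ p := h1 ▸ p.add_mem (p.mul_mem_left _ hcon.1) (p.mul_mem_left _ hcon.2)
      exact (Ideal.IsPrime.ne_top ‹_›) ((Ideal.eq_top_iff_one _).mpr this)
    rcases this with h | h
    · left
      have hu : IsUnit (algebraMap R (Localization.AtPrime p) x') :=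
        IsLocalization.map_units (Localization.AtPrime p) (⟨x', h⟩ : p.primeCompl)
      rw [hx', hy', map_mul, map_mul]
      exact mul_dvd_mul_left _ (hu.dvd)
    · right
      have hu : IsUnit (algebraMap R (Localization.AtPrime p) y') :=
        IsLocalization.map_units (Localization.AtPrime p) (⟨y', h⟩ : p.primeCompl)
      rw [hx', hy', map_mul, map_mul]
      exact mul_dvd_mul_left _ (hu.dvd)

omit [IsBezout R] in
/-- principal ideals in a domain are free -/
theorem free_of_isPrincipal (I : Ideal R) (hI : I.IsPrincipal) : Module.Free R I := by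
  obtain ⟨a, rfl⟩ := hI
  by_cases ha : a = 0
  · subst ha
    have : Subsingleton (Submodule.span R ({0} : Set R)) := by
      rw [Submodule.span_zero_singleton]
      infer_instance
    infer_instance
  · exact Module.Free.of_equiv (LinearEquiv.toSpanNonzeroSingleton R R a ha)

universe v in
/-- Over a Bézout domain, a finitely generated module embedding into a finite free module is
free. -/
theorem free_of_injective_to_pi : ∀ (k : ℕ) (Q : Type v) [AddCommGroup Q] [Module R Q]
    [Module.Finite R Q] (j : Q →ₗ[R] (Fin k → R)), Function.Injective j → Module.Free R Q := by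
  intro k
  induction k with
  | zero =>
    intro Q _ _ _ j hj
    have : Subsingleton Q := hj.subsingleton
    infer_instance
  | succ k ih =>
    intro Q _ _ _ j hj
    let π : Q →ₗ[R] R := LinearMap.proj (Fin.last k) ∘ₗ j
    have hfg : (LinearMap.range π).FG := by
      rw [LinearMap.range_eq_map]
      exact (Module.Finite.fg_top).map π
    have hprin : (LinearMap.range π).IsPrincipal := IsBezout.isPrincipal_of_FG _ hfg
    have hfree : Module.Free R (LinearMap.range π) := free_of_isPrincipal _ hprin
    obtain ⟨σ, hσ⟩ := Module.projective_lifting_property π.rangeRestrict LinearMap.id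
      π.surjective_rangeRestrict
    let e := prodKerEquivOfRetract σ π.rangeRestrict hσ
    let K := LinearMap.ker π.rangeRestrict
    have hKfin : Module.Finite R K := by
      refine Module.Finite.of_surjective
        (LinearMap.snd R (LinearMap.range π) K ∘ₗ e.symm.toLinearMap) ?_
      intro y
      exact ⟨e (0, y), by simp⟩
    let j' : K →ₗ[R] (Fin k → R) :=
      (LinearMap.pi fun l => LinearMap.proj (Fin.castSucc l)) ∘ₗ j ∘ₗ K.subtype
    have hj' : Function.Injective j' := by
      rw [← LinearMap.ker_eq_bot, LinearMap.ker_eq_bot']
      intro x hx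
      have hx0 : π x.1 = 0 := by
        have := x.2
        rw [LinearMap.mem_ker] at this
        exact congrArg Subtype.val this
      apply Subtype.ext
      apply hj
      rw [Submodule.coe_zero, map_zero]
      funext l
      refine Fin.lastCases ?_ (fun l => ?_) l
      · exact hx0
      · exact congrFun hx l
    have hKfree : Module.Free R K := ih K j' hj'
    exact Module.Free.of_equiv e

end Bezout

end Groth.Agent.Helper9.Warfield
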